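import Groth.Agent.EtUH.Lift
/-!
Base change of small etale sites along universal homeomorphisms.
-/

set_option autoImplicit false
set_option backward.isDefEq.respectTransparency false
set_option backward.isDefEq.respectTransparency.types false

universe u

open CategoryTheory CategoryTheory.Limits AlgebraicGeometry Opposite

namespace Groth.Agent.EtUH

open _root_.AlgSp Groth.Agent.ASp

variable {S : Scheme.{u}} {X Y : Sp S} {f : X ⟶ Y}

theorem fullyFaithful_bc (hY : IsAlgSpace Y) (hf : Representable f) (hu : RepWith UH f) :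
    (EtOver.bc hf).Full ∧ (EtOver.bc hf).Faithful := by
  have key : ∀ (E E' : EtOver Y) (ψ : (EtOver.bc hf).obj E ⟶ (EtOver.bc hf).obj E'),
      ∃! g : E ⟶ E', (EtOver.bc hf).map g = ψ := by
    intro E E' ψ
    have hc : RepWith UH ((yon S).map (EtOver.bcπ hf E)) :=
      repWith_of_isPullback (EtOver.isPullback_bcObj hf E) hu
    have hE' : IsEtaleMor E'.obj.hom := fun W φ hφ => repWith_comp hφ E'.property
    have hψ : (yon S).map ψ.hom.left ≫ ((EtOver.bc hf).obj E').obj.hom = ((EtOver.bc hf).obj E).obj.hom := EtOver.w ψ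
    obtain ⟨x, ⟨hxa, hxc⟩, hxu⟩ := existsUnique_hom (IsAlgSpace.yon_obj _) (IsAlgSpace.yon_obj _) hY hc hE'
      E.obj.hom ((yon S).map ψ.hom.left ≫ (yon S).map (EtOver.bcπ hf E')) (by
        rw [Category.assoc, ← (EtOver.isPullback_bcObj hf E').w, ← Category.assoc]
        exact (congrArg (· ≫ f) hψ).trans (EtOver.isPullback_bcObj hf E).w)
    obtain ⟨x, rfl⟩ := (yon S).map_surjective x
    refine ⟨EtOver.homMk x hxa, EtOver.hom_ext _ _ ((yon S).map_injective
      ((EtOver.isPullback_bcObj hf E').hom_ext ?_ ?_)), fun g hg => ?_⟩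
    · exact (EtOver.map_bcMap_fst hf _).trans hψ.symm
    · refine ((Functor.map_comp _ _ _).symm.trans ((congrArg (yon S).map (EtOver.bcMap_snd hf _)).trans ?_))
      rw [Functor.map_comp]
      exact hxc
    · subst hg
      refine EtOver.hom_ext _ _ ((yon S).map_injective (hxu _ ⟨EtOver.w g, ?_⟩))
      exact (Functor.map_comp _ _ _).symm.trans ((congrArg (yon S).map (EtOver.bcMap_snd hf g)).symm.trans
        (Functor.map_comp _ _ _))
  exact ⟨⟨fun {E E'} ψ => (key E E' ψ).exists⟩, ⟨fun {E E'} g g' h => (key E E' _).unique rfl h.symm⟩⟩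

theorem essSurj_bc (hX : IsAlgSpace X) (hY : IsAlgSpace Y) (hf : Representable f) (hu : RepWith UH f)
    (hsch : ∀ {T : Over S} {V' : Space S} (c : (yon S).obj T ⟶ V'.obj) (a : V'.obj ⟶ Y)
      (b : (yon S).obj T ⟶ X), IsPullback b c f a → ∃ P : Over S, Nonempty ((yon S).obj P ≅ V'.obj)) :
    (EtOver.bc hf).EssSurj := by
  refine ⟨fun E => ?_⟩
  have hE : IsEtaleMor E.obj.hom := fun W φ hφ => repWith_comp hφ E.property
  obtain ⟨V', a, c, hV', ha, sq⟩ := exists_lift hY hX (IsAlgSpace.yon_obj _) hu hE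
  obtain ⟨P, ⟨φ⟩⟩ := hsch (V' := ⟨V', hV'⟩) c a E.obj.hom sq
  have hea : RepWith @Etale (φ.hom ≫ a) := ha φ.hom (repWith_of_isIso _)
  let E' : EtOver Y := EtOver.mk (φ.hom ≫ a) hea
  have sq' : IsPullback E.obj.hom (c ≫ φ.inv) f E'.obj.hom :=
    IsPullback.of_iso sq (Iso.refl _) (Iso.refl _) φ.symm (Iso.refl _) (by simp) (by simp) (by simp) (by simp [E'])
  let i := (EtOver.isPullback_bcObj hf E').isoIsPullback _ _ sq'
  exact ⟨E', ⟨ObjectProperty.isoMk _ (CostructuredArrow.isoMk ((yon S).preimageIso i) (by simp [i]; rfl))⟩⟩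

end Groth.Agent.EtUH
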