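import Groth.Agent.ASp.UnramDiag
import Groth.Agent.ASp.AffMor
import Groth.Agent.ASp.ClosedIdeal
import Groth.Agent.ASp.LargestOpen
import Groth.Agent.ASp.ThickTop
import Groth.Agent.TopInv.Basic
import Groth.Agent.EtGlueLib.UnivHomeoMain
/-!
Morphisms into etale algebraic spaces descend along universal homeomorphisms.
-/

set_option autoImplicit false
set_option backward.isDefEq.respectTransparency false
set_option backward.isDefEq.respectTransparency.types false

universe u

open CategoryTheory CategoryTheory.Limits AlgebraicGeometry Opposite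

namespace Groth.Agent.EtUH

open _root_.AlgSp Groth.Agent.ASp

variable {S : Scheme.{u}}

/-- Integral, universally injective and surjective. -/
def UH : MorphismProperty Scheme.{u} := fun _ _ g => IsIntegralHom g ∧ UniversallyInjective g ∧ Surjective g

theorem uh_of_thick {A B : Scheme.{u}} (g : A ⟶ B) (h : thick g) : UH g := by
  haveI : IsClosedImmersion g := h.1
  exact ⟨inferInstance, inferInstance, h.2⟩

theorem repWith_uh_of_thick {F G : Sp S} {f : F ⟶ G} (h : IsThickMor f) : RepWith UH f :=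
  repWith_mono (fun _ _ g hg => uh_of_thick g hg) h

theorem universallyInjective_of_univInjectiveMor {F G : Sp S} {f : F ⟶ G} (h : IsUnivInjectiveMor f)
    {W T : Over S} {g : (yon S).obj T ⟶ G} {fst : (yon S).obj W ⟶ F} {i : W ⟶ T}
    (sq : IsPullback fst ((yon S).map i) f g) : UniversallyInjective i.left := by
  refine ⟨fun {X' Y'} f' g' i' sq' a b hab => ?_⟩
  let T' : Over S := Over.mk (g' ≫ T.hom)
  let W' : Over S := Over.mk (f' ≫ W.hom)
  let gT : T' ⟶ T := Over.homMk g' rfl
  let gW : W' ⟶ W := Over.homMk f' rfl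
  let iW : W' ⟶ T' := Over.homMk i' (by
    show i' ≫ g' ≫ T.hom = f' ≫ W.hom
    rw [← Category.assoc, sq'.w, Category.assoc, Over.w i])
  have sqT : IsPullback gW iW i gT :=
    (IsPullback.of_map (Over.forget S) (f := iW) (g := gW) (h := gT) (i := i) (Over.OverMorphism.ext sq'.w) sq').flip
  have big := (isPullback_yon_map sqT).paste_horiz sq
  apply (Points.schemeHomeo W').injective
  apply h (IsAlgSpace.yon_obj T') _ _ _ big
  exact ((Points.map_yon_map_apply iW a).trans (congrArg _ hab)).trans (Points.map_yon_map_apply iW b).symm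

theorem repWith_uh_of_mor {F G : Sp S} {f : F ⟶ G} (hF : IsAlgSpace F) (hG : IsAlgSpace G)
    (h1 : IsIntegralMor f) (h2 : IsUnivInjectiveMor f) (h3 : IsSurjectiveMor f) : RepWith UH f := by
  have hi := (isIntegralMor_iff hF hG).1 h1
  have hs : RepWith @Surjective f := (repWith_surjective_iff hi.1).2 h3
  exact ⟨hi.1, fun T W g fst snd sq =>
    ⟨hi.2 _ _ _ sq, universallyInjective_of_univInjectiveMor h2 sq, hs.2 _ _ _ sq⟩⟩

/-- Two maps to an algebraic space etale over the target which agree after a surjection are equal. -/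
theorem eq_of_surjective {P Y : Sp S} (hP : IsAlgSpace P) (hY : IsAlgSpace Y) {a : P ⟶ Y} (ha : IsEtaleMor a)
    {T T0 : Over S} (q : T0 ⟶ T) [Surjective q.left] {x y : (yon S).obj T ⟶ P} (e : x ≫ a = y ≫ a)
    (eq : (yon S).map q ≫ x = (yon S).map q ≫ y) : x = y := by
  have hl : LocP (@LocallyOfFiniteType ⊓ @FormallyUnramified) a :=
    locP_mono (fun _ _ g (hg : Etale g) => ⟨inferInstance, inferInstance⟩) ((isEtaleMor_iff_locP hY).1 ha)
  have hd := repWith_diagonal_isOpenImmersion_of_unramified hP hY hl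
  obtain ⟨E, z, fst, sqE⟩ := hd.1 (pullback.lift x y e)
  haveI : IsOpenImmersion z.left := hd.2 _ _ _ sqE
  obtain ⟨l, hl'⟩ := (yon S).map_surjective (sqE.lift ((yon S).map q ≫ x) ((yon S).map q) (by
    apply pullback.hom_ext
    · simp
    · simp [eq]))
  have hlz : l ≫ z = q := (yon S).map_injective (by rw [Functor.map_comp, hl', sqE.lift_snd])
  haveI : Surjective z.left := by
    haveI : Surjective (l.left ≫ z.left) := by rw [← Over.comp_left, hlz]; infer_instance
    exact Surjective.of_comp l.left z.left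
  haveI : IsIso z.left := TopInv.isIso_of_surjective_openImmersion z.left
  haveI : IsIso ((Over.forget S).map z) := ‹IsIso z.left›
  haveI : IsIso z := isIso_of_reflects_iso z (Over.forget S)
  rw [← cancel_epi ((yon S).map z)]
  have h1 := congrArg (· ≫ pullback.fst a a) sqE.w
  have h2 := congrArg (· ≫ pullback.snd a a) sqE.w
  simp only [Category.assoc, pullback.diagonal_fst, pullback.diagonal_snd, pullback.lift_fst, pullback.lift_snd,
    Category.comp_id] at h1 h2
  exact h1.symm.trans h2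

/-- Etale schemes descend along a universal homeomorphism. -/
theorem exists_etale_lift {T T0 W0 : Over S} (q : T0 ⟶ T) (hq : UH q.left) (w0 : W0 ⟶ T0) [Etale w0.left] :
    ∃ (W : Over S) (w : W ⟶ T) (p : W0 ⟶ W), Etale w.left ∧ IsPullback p w0 w q := by
  haveI := hq.1
  haveI := hq.2.1
  haveI := hq.2.2
  obtain ⟨V, v, π, hv, hπ⟩ := EtGlueLib.exists_isPullback (f := q.left) (u := w0.left) fun z =>
    EtGlueLib.exists_model_univHomeo q.left w0.left z
  let p : W0 ⟶ Over.mk (v ≫ T.hom) := Over.homMk π (by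
    show π ≫ v ≫ T.hom = W0.hom
    rw [← Category.assoc, hπ.w, Category.assoc, Over.w q, Over.w w0])
  let w : Over.mk (v ≫ T.hom) ⟶ T := Over.homMk v rfl
  exact ⟨_, w, p, hv, IsPullback.of_map (Over.forget S) (f := p) (g := w0) (h := w) (i := q)
    (Over.OverMorphism.ext hπ.w) hπ⟩

/-- Maps to an algebraic space etale over the target descend along a universal homeomorphism of schemes. -/
theorem exists_desc {P Y : Sp S} (hP : IsAlgSpace P) (hY : IsAlgSpace Y) {a : P ⟶ Y} (ha : IsEtaleMor a)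
    {T T0 : Over S} (q : T0 ⟶ T) (hq : UH q.left) (t : (yon S).obj T ⟶ Y) (s : (yon S).obj T0 ⟶ P)
    (e : s ≫ a = (yon S).map q ≫ t) :
    ∃ x : (yon S).obj T ⟶ P, x ≫ a = t ∧ (yon S).map q ≫ x = s := by
  haveI := hq.1
  haveI := hq.2.1
  haveI := hq.2.2
  obtain ⟨PT, π₁, π₂, sqP⟩ : ∃ (PT : Sp S) (π₁ : PT ⟶ P) (π₂ : PT ⟶ (yon S).obj T), IsPullback π₁ π₂ a t :=
    ⟨_, _, _, IsPullback.of_hasPullback _ _⟩
  have hPT : IsAlgSpace PT := isAlgSpace_of_isPullback hY.diag hP (IsAlgSpace.yon_obj T) sqP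
  obtain ⟨W, π, hπe, hπs⟩ := hPT.atlas
  obtain ⟨w, hw⟩ := (yon S).map_surjective (π ≫ π₂)
  haveI : Etale w.left := by
    have h := locP_of_isPullback sqP.flip hP hY (IsAlgSpace.yon_obj T) ((isEtaleMor_iff_locP hY).1 ha)
    exact h π (𝟙 _) w hπe (repWith_id _ T) (by rw [hw, Category.comp_id])
  obtain ⟨M, m₁, m₂, hM⟩ := exists_isPullback_yon hπe.1 (sqP.lift s ((yon S).map q) e)
  haveI : Etale m₂.left := hπe.2 _ _ _ hM
  haveI : Surjective m₂.left := hπs.2 _ _ _ hM
  have hmw : m₁ ≫ w = m₂ ≫ q := (yon S).map_injective (by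
    rw [Functor.map_comp, Functor.map_comp, hw, reassoc_of% hM.w, sqP.lift_snd])
  obtain ⟨V, v, p, hv, hsq⟩ := exists_etale_lift q hq m₂
  haveI := hv
  haveI : IsIntegralHom p.left := MorphismProperty.of_isPullback (isPullback_left hsq).flip hq.1
  haveI : UniversallyInjective p.left := MorphismProperty.of_isPullback (isPullback_left hsq).flip hq.2.1
  haveI : Surjective p.left := MorphismProperty.of_isPullback (isPullback_left hsq).flip hq.2.2
  haveI : Surjective v.left := by
    haveI : Surjective (p.left ≫ v.left) := by rw [(isPullback_left hsq).w]; infer_instance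
    exact Surjective.of_comp p.left v.left
  obtain ⟨φ, hφ, hpφ⟩ := TopInv.exists_desc w.left v.left p.left m₁.left (by
    rw [← Over.comp_left, hmw, Over.comp_left, (isPullback_left hsq).w])
  let φ' : V ⟶ W := Over.homMk φ (by
    rw [← Over.w w, ← Category.assoc, hφ, Over.w v])
  have hφ' : φ' ≫ w = v := Over.OverMorphism.ext hφ
  have hpφ' : p ≫ φ' = m₁ := Over.OverMorphism.ext hpφ
  obtain ⟨x', hx'def⟩ : ∃ x' : (yon S).obj V ⟶ P, x' = (yon S).map φ' ≫ π ≫ π₁ := ⟨_, rfl⟩
  have hx' : x' ≫ a = (yon S).map v ≫ t := by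
    simp only [hx'def, Category.assoc, sqP.w]
    rw [← Category.assoc π, ← hw, ← Functor.map_comp_assoc, hφ']
  have hpx : (yon S).map p ≫ x' = (yon S).map m₂ ≫ s := by
    simp only [hx'def, ← Category.assoc, ← Functor.map_comp, hpφ']
    rw [hM.w, Category.assoc, sqP.lift_fst]
  obtain ⟨VV, v₁, v₂, hVV⟩ := exists_isPullback_yon (repWith_yon_map (P := @Etale) hv).1 ((yon S).map v)
  haveI : Epi ((yon S).map v) := epi_of_etale_surjective (repWith_yon_map (P := @Etale) hv)
    (repWith_yon_map (P := @Surjective) ‹Surjective v.left›)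
  have hvv : v₁ ≫ v = v₂ ≫ v := (yon S).map_injective (by simpa using hVV.w)
  have hT0 : IsPullback (pullback.fst (v₁ ≫ v) q) (pullback.snd (v₁ ≫ v) q) (v₁ ≫ v) q :=
    IsPullback.of_hasPullback _ _
  haveI : Surjective (pullback.fst (v₁ ≫ v) q).left :=
    MorphismProperty.of_isPullback (isPullback_left hT0).flip hq.2.2
  obtain ⟨x, hx⟩ := exists_desc_of_epi ((yon S).map v) hVV x' (by
    refine eq_of_surjective hP hY ha (pullback.fst (v₁ ≫ v) q) ?_ ?_
    · rw [Category.assoc, Category.assoc, hx', ← Category.assoc, hVV.w, Category.assoc]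
    · have key : ∀ {Z : Over S} (l : Z ⟶ M) (k : Z ⟶ V), l ≫ p = k →
          (yon S).map k ≫ x' = (yon S).map (l ≫ m₂) ≫ s := fun l k hk => by
        rw [← hk, Functor.map_comp, Functor.map_comp, Category.assoc, Category.assoc, hpx]
      rw [← Category.assoc, ← Category.assoc, ← Functor.map_comp, ← Functor.map_comp,
        key (hsq.lift _ (pullback.snd (v₁ ≫ v) q) (by rw [Category.assoc, hT0.w])) _ (hsq.lift_fst _ _ _),
        key (hsq.lift _ (pullback.snd (v₁ ≫ v) q) (by rw [Category.assoc, ← hvv, hT0.w])) _ (hsq.lift_fst _ _ _),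
        hsq.lift_snd, hsq.lift_snd])
  have hxa : x ≫ a = t := by rw [← cancel_epi ((yon S).map v), reassoc_of% hx, hx']
  refine ⟨x, hxa, ?_⟩
  haveI : Epi ((yon S).map m₂) := epi_of_etale_surjective (repWith_yon_map (P := @Etale) ‹Etale m₂.left›)
    (repWith_yon_map (P := @Surjective) ‹Surjective m₂.left›)
  rw [← cancel_epi ((yon S).map m₂), ← hpx, ← hx, ← Functor.map_comp_assoc, ← Functor.map_comp_assoc, hsq.w]

/-- Maps to an algebraic space etale over the target descend uniquely along a universal homeomorphism of spaces. -/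
theorem existsUnique_hom {V V' P Y : Sp S} (hV' : IsAlgSpace V') (hP : IsAlgSpace P) (hY : IsAlgSpace Y)
    {c : V ⟶ V'} (hc : RepWith UH c) {a : P ⟶ Y} (ha : IsEtaleMor a) (t : V' ⟶ Y) (s : V ⟶ P)
    (e : s ≫ a = c ≫ t) : ∃! x : V' ⟶ P, x ≫ a = t ∧ c ≫ x = s := by
  obtain ⟨U, u, hue, hus⟩ := hV'.atlas
  haveI : Epi u := epi_of_etale_surjective hue hus
  obtain ⟨U0, q, fst, sqU⟩ := hc.1 u
  have hq : UH q.left := hc.2 _ _ _ sqU
  obtain ⟨x', hx'a, hx'⟩ := exists_desc hP hY ha q hq (u ≫ t) (fst ≫ s) (by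
    rw [Category.assoc, e, ← Category.assoc, sqU.w, Category.assoc])
  obtain ⟨R, r₁, r₂, hR⟩ := exists_isPullback_yon hue.1 u
  obtain ⟨R0, qR, fR, sqR⟩ := hc.1 ((yon S).map r₁ ≫ u)
  haveI : Surjective qR.left := (hc.2 _ _ _ sqR).2.2
  obtain ⟨x, hx⟩ := exists_desc_of_epi u hR x' (by
    refine eq_of_surjective hP hY ha qR ?_ ?_
    · simp only [Category.assoc, hx'a]
      rw [← Category.assoc, hR.w, Category.assoc]
    · obtain ⟨l₁, hl₁⟩ := (yon S).map_surjective (sqU.lift fR ((yon S).map (qR ≫ r₁)) (by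
        rw [sqR.w, Functor.map_comp, Category.assoc]))
      obtain ⟨l₂, hl₂⟩ := (yon S).map_surjective (sqU.lift fR ((yon S).map (qR ≫ r₂)) (by
        rw [sqR.w, Functor.map_comp, Category.assoc, hR.w]))
      have h₁ : l₁ ≫ q = qR ≫ r₁ := (yon S).map_injective (by rw [Functor.map_comp, hl₁, sqU.lift_snd])
      have h₂ : l₂ ≫ q = qR ≫ r₂ := (yon S).map_injective (by rw [Functor.map_comp, hl₂, sqU.lift_snd])
      rw [← Category.assoc, ← Category.assoc, ← Functor.map_comp, ← Functor.map_comp, ← h₁, ← h₂, Functor.map_comp,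
        Functor.map_comp, Category.assoc, Category.assoc, hx', ← Category.assoc, ← Category.assoc, hl₁, hl₂,
        sqU.lift_fst, sqU.lift_fst])
  haveI : Epi fst := epi_of_etale_surjective (repWith_of_isPullback sqU.flip hue)
    (repWith_of_isPullback sqU.flip hus)
  refine ⟨x, ⟨?_, ?_⟩, fun y ⟨hya, hy⟩ => ?_⟩
  · rw [← cancel_epi u, reassoc_of% hx, hx'a]
  · rw [← cancel_epi fst, ← Category.assoc, sqU.w, Category.assoc, hx, hx']
  · rw [← cancel_epi u, hx]
    haveI := hq.2.2
    refine eq_of_surjective hP hY ha q (by rw [Category.assoc, hya, hx'a]) ?_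
    rw [← Category.assoc, ← sqU.w, Category.assoc, hy, hx']

end Groth.Agent.EtUH
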