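import Groth.Agent.EtUH.Desc
import Groth.Agent.ASp.EqvQuot
import Groth.Agent.ASp.OpenImm
/-!
Etale algebraic spaces descend along universal homeomorphisms.
-/

set_option autoImplicit false
set_option backward.isDefEq.respectTransparency false
set_option backward.isDefEq.respectTransparency.types false

universe u

open CategoryTheory CategoryTheory.Limits AlgebraicGeometry Opposite

namespace Groth.Agent.EtUH

open _root_.AlgSp Groth.Agent.ASp

variable {S : Scheme.{u}}

theorem isHomeomorph_of_uh {A B : Scheme.{u}} {g : A ⟶ B} (h : UH g) : IsHomeomorph g := by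
  haveI := h.1
  haveI := h.2.1
  haveI := h.2.2
  exact isHomeomorph_iff_continuous_isClosedMap_bijective.mpr
    ⟨g.continuous, g.isClosedMap, g.injective, g.surjective⟩

/-- The relation on an atlas `W` of the target induced by the space `V` on its base change `W0`. -/
def Rel {X Y V : Sp S} {W W0 : Over S} (p : W0 ⟶ W) (yW : (yon S).obj W ⟶ Y) (θ : (yon S).obj W0 ⟶ V)
    (b : V ⟶ X) {T : Over S} (x y : T ⟶ W) : Prop :=
  (yon S).map x ≫ yW = (yon S).map y ≫ yW ∧
    ∀ ⦃T0 : Over S⦄ (q : T0 ⟶ T) (x0 y0 : T0 ⟶ W0), x0 ≫ p = q ≫ x → y0 ≫ p = q ≫ y →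
      (yon S).map x0 ≫ θ ≫ b = (yon S).map y0 ≫ θ ≫ b → (yon S).map x0 ≫ θ = (yon S).map y0 ≫ θ

theorem rel_equivalence {X Y V : Sp S} {W W0 : Over S} {p : W0 ⟶ W} {yW : (yon S).obj W ⟶ Y}
    {θ : (yon S).obj W0 ⟶ V} {b : V ⟶ X} {f : X ⟶ Y}
    (sqW : IsPullback (θ ≫ b) ((yon S).map p) f yW) (T : Over S) :
    Equivalence (fun x y : T ⟶ W => Rel p yW θ b x y) := by
  refine ⟨fun x => ⟨rfl, fun T0 q x0 y0 hx hy he => ?_⟩, fun {x y} h => ⟨h.1.symm, fun T0 q x0 y0 hx hy he =>
    (h.2 q y0 x0 hy hx he.symm).symm⟩, fun {x y z} h h' => ⟨h.1.trans h'.1, fun T0 q x0 z0 hx hz he => ?_⟩⟩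
  · have : x0 = y0 := (yon S).map_injective (sqW.hom_ext he (by
      rw [← Functor.map_comp, ← Functor.map_comp, hx, hy]))
    rw [this]
  · obtain ⟨y0, hy0⟩ := (yon S).map_surjective (sqW.lift ((yon S).map x0 ≫ θ ≫ b) ((yon S).map (q ≫ y)) (by
      simp only [Category.assoc]
      rw [← Category.assoc θ, sqW.w, ← Functor.map_comp_assoc, hx, Functor.map_comp, Functor.map_comp,
        Category.assoc, Category.assoc, h.1]))
    have e1 : (yon S).map y0 ≫ θ ≫ b = (yon S).map x0 ≫ θ ≫ b := by rw [hy0, sqW.lift_fst]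
    have e2 : y0 ≫ p = q ≫ y := (yon S).map_injective (by
      rw [(yon S).map_comp y0 p, hy0, sqW.lift_snd])
    exact (h.2 q x0 y0 hx e2 e1.symm).trans (h'.2 q y0 z0 e2 hz (e1.trans he))

/-- An algebraic space etale over `X` is the base change of one etale over `Y`. -/
theorem exists_lift {X Y V : Sp S} (hY : IsAlgSpace Y) (hX : IsAlgSpace X) (hV : IsAlgSpace V)
    {f : X ⟶ Y} (hf : RepWith UH f) {b : V ⟶ X} (hb : IsEtaleMor b) :
    ∃ (V' : Sp S) (a : V' ⟶ Y) (c : V ⟶ V'), IsAlgSpace V' ∧ IsEtaleMor a ∧ IsPullback b c f a := by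
  obtain ⟨U, y, hye, hys⟩ := hY.atlas
  obtain ⟨U0, q, fst0, sqU⟩ := hf.1 y
  have hq : UH q.left := hf.2 _ _ _ sqU
  obtain ⟨VU, c₁, c₂, sqV⟩ : ∃ (VU : Sp S) (c₁ : VU ⟶ V) (c₂ : VU ⟶ (yon S).obj U0), IsPullback c₁ c₂ b fst0 :=
    ⟨_, _, _, IsPullback.of_hasPullback _ _⟩
  have hVU : IsAlgSpace VU := isAlgSpace_of_isPullback hX.diag hV (IsAlgSpace.yon_obj U0) sqV
  obtain ⟨W0, π, hπe, hπs⟩ := hVU.atlas
  obtain ⟨w0, hw0⟩ := (yon S).map_surjective (π ≫ c₂)
  haveI : Etale w0.left := by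
    have h := locP_of_isPullback sqV.flip hV hX (IsAlgSpace.yon_obj U0) ((isEtaleMor_iff_locP hX).1 hb)
    exact h π (𝟙 _) w0 hπe (repWith_id _ U0) (by rw [hw0, Category.comp_id])
  obtain ⟨θ, hθdef⟩ : ∃ θ : (yon S).obj W0 ⟶ V, θ = π ≫ c₁ := ⟨_, rfl⟩
  have hθe : RepWith @Etale θ := by
    rw [hθdef]; exact repWith_comp hπe (repWith_of_isPullback sqV.flip (repWith_of_isPullback sqU.flip hye))
  have hθs : RepWith @Surjective θ := by
    rw [hθdef]; exact repWith_comp hπs (repWith_of_isPullback sqV.flip (repWith_of_isPullback sqU.flip hys))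
  obtain ⟨W, w, p, hw, hsqw⟩ := exists_etale_lift q hq w0
  obtain ⟨yW, hyW⟩ : ∃ yW : (yon S).obj W ⟶ Y, yW = (yon S).map w ≫ y := ⟨_, rfl⟩
  have hyWe : RepWith @Etale yW := by rw [hyW]; exact repWith_comp (repWith_yon_map hw) hye
  have sqW : IsPullback (θ ≫ b) ((yon S).map p) f yW := by
    have h := ((isPullback_yon_map hsqw).flip).paste_horiz sqU
    rw [hyW]
    convert h using 1
    rw [hθdef, Category.assoc, sqV.w, ← Category.assoc, hw0]
  obtain ⟨RW, t, s, hRW⟩ := exists_isPullback_yon hyWe.1 yW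
  obtain ⟨R0, t0, s0, hR0⟩ := exists_isPullback_yon hθe.1 θ
  -- the base change `K` of the big relation and the open immersion `R0 ⟶ K`
  obtain ⟨K, k, kX, sqK⟩ := hf.1 ((yon S).map t ≫ yW)
  have hk : UH k.left := hf.2 _ _ _ sqK
  obtain ⟨kt, hkt⟩ := (yon S).map_surjective (sqW.lift kX ((yon S).map (k ≫ t)) (by
    rw [sqK.w, Functor.map_comp, Category.assoc]))
  obtain ⟨ks, hks⟩ := (yon S).map_surjective (sqW.lift kX ((yon S).map (k ≫ s)) (by
    rw [sqK.w, hRW.w, Functor.map_comp, Category.assoc]))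
  have hktp : kt ≫ p = k ≫ t := (yon S).map_injective (by rw [Functor.map_comp, hkt, sqW.lift_snd])
  have hksp : ks ≫ p = k ≫ s := (yon S).map_injective (by rw [Functor.map_comp, hks, sqW.lift_snd])
  have hktX : (yon S).map kt ≫ θ ≫ b = kX := by rw [hkt, sqW.lift_fst]
  have hksX : (yon S).map ks ≫ θ ≫ b = kX := by rw [hks, sqW.lift_fst]
  have eKts : ((yon S).map kt ≫ θ) ≫ b = ((yon S).map ks ≫ θ) ≫ b := by
    rw [Category.assoc, Category.assoc, hktX, hksX]
  have hl : LocP (@LocallyOfFiniteType ⊓ @FormallyUnramified) b :=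
    locP_mono (fun _ _ g (hg : Etale g) => ⟨inferInstance, inferInstance⟩) ((isEtaleMor_iff_locP hX).1 hb)
  have hd := repWith_diagonal_isOpenImmersion_of_unramified hV hX hl
  obtain ⟨E, j, fE, sqE⟩ := hd.1 (pullback.lift _ _ eKts)
  haveI : IsOpenImmersion j.left := hd.2 _ _ _ sqE
  have hjfac : ∀ {Z : Over S} (z : Z ⟶ K), (∃ r, r ≫ j = z) ↔
      (yon S).map (z ≫ kt) ≫ θ = (yon S).map (z ≫ ks) ≫ θ := by
    intro Z z
    constructor
    · rintro ⟨r, rfl⟩
      have h1 := congrArg (· ≫ pullback.fst b b) sqE.w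
      have h2 := congrArg (· ≫ pullback.snd b b) sqE.w
      simp only [Category.assoc, pullback.diagonal_fst, pullback.diagonal_snd, pullback.lift_fst,
        pullback.lift_snd, Category.comp_id] at h1 h2
      simp only [Functor.map_comp, Category.assoc, ← h1, ← h2]
    · intro h
      obtain ⟨r, hr⟩ := (yon S).map_surjective (sqE.lift ((yon S).map (z ≫ kt) ≫ θ) ((yon S).map z) (by
        apply pullback.hom_ext
        · simp [Functor.map_comp]
        · simpa [Functor.map_comp] using h))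
      exact ⟨r, (yon S).map_injective (by rw [Functor.map_comp, hr, sqE.lift_snd])⟩
  -- the open relation
  let O : RW.left.Opens := ⟨k.left '' Set.range j.left,
    (isHomeomorph_of_uh hk).isOpenMap _ j.left.isOpenEmbedding.isOpen_range⟩
  let R : Over S := Over.mk (O.ι ≫ RW.hom)
  let ι : R ⟶ RW := Over.homMk O.ι rfl
  haveI : IsOpenImmersion ι.left := inferInstanceAs (IsOpenImmersion O.ι)
  have hRfac : ∀ {T : Over S} (z : T ⟶ RW), (∃ r, r ≫ ι = z) ↔ ∀ τ, z.left τ ∈ O := by
    intro T z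
    constructor
    · rintro ⟨r, rfl⟩ τ
      exact (r.left τ).2
    · intro h
      refine ⟨Over.homMk (IsOpenImmersion.lift O.ι z.left (by
        rintro _ ⟨τ, rfl⟩; exact (Scheme.Opens.range_ι O).symm.subset (h τ))) ?_, Over.OverMorphism.ext (IsOpenImmersion.lift_fac _ _ _)⟩
      show IsOpenImmersion.lift O.ι z.left _ ≫ O.ι ≫ RW.hom = T.hom
      rw [IsOpenImmersion.lift_fac_assoc, Over.w z]
  have hRrel : ∀ {T : Over S} (x y : T ⟶ W),
      (∃ r : T ⟶ R, r ≫ ι ≫ t = x ∧ r ≫ ι ≫ s = y) ↔ Rel p yW θ b x y := by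
    intro T x y
    constructor
    · rintro ⟨r, rfl, rfl⟩
      refine ⟨by simp only [Functor.map_comp, Category.assoc, hRW.w], fun T0 q0 x0 y0 hx hy he => ?_⟩
      obtain ⟨z0, hz0⟩ := (yon S).map_surjective (sqK.lift ((yon S).map x0 ≫ θ ≫ b) ((yon S).map (q0 ≫ r ≫ ι)) (by
        simp only [Category.assoc]
        rw [← Category.assoc θ, sqW.w, ← Functor.map_comp_assoc, ← Functor.map_comp_assoc, hx]
        simp only [Category.assoc]))
      have hz0X : (yon S).map z0 ≫ kX = (yon S).map x0 ≫ θ ≫ b := by rw [hz0, sqK.lift_fst]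
      have hz0k : z0 ≫ k = q0 ≫ r ≫ ι := (yon S).map_injective (by rw [(yon S).map_comp z0 k, hz0, sqK.lift_snd])
      have ex : z0 ≫ kt = x0 := (yon S).map_injective (sqW.hom_ext
        (by rw [Functor.map_comp, Category.assoc, hktX, hz0X])
        (by rw [← Functor.map_comp, ← Functor.map_comp, Category.assoc, hktp, reassoc_of% hz0k, hx]))
      have ey : z0 ≫ ks = y0 := (yon S).map_injective (sqW.hom_ext
        (by rw [Functor.map_comp, Category.assoc, hksX, hz0X, he])
        (by rw [← Functor.map_comp, ← Functor.map_comp, Category.assoc, hksp, reassoc_of% hz0k, hy]))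
      rw [← ex, ← ey]
      refine (hjfac z0).1 ?_
      refine ⟨Over.homMk (IsOpenImmersion.lift j.left z0.left ?_) ?_, Over.OverMorphism.ext (IsOpenImmersion.lift_fac _ _ _)⟩
      · rintro _ ⟨τ, rfl⟩
        obtain ⟨e0, he0, heq⟩ := ((r.left (q0.left τ)).2 : (r.left (q0.left τ)).1 ∈ k.left '' Set.range j.left)
        have h2 : k.left e0 = k.left (z0.left τ) := by
          have := congrArg (fun m : T0 ⟶ RW => m.left τ) hz0k
          exact heq.trans this.symm
        rw [← (isHomeomorph_of_uh hk).injective h2]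
        exact he0
      · rw [← Over.w j, IsOpenImmersion.lift_fac_assoc, Over.w z0]
    · intro h
      obtain ⟨z, hz⟩ := (yon S).map_surjective (hRW.lift ((yon S).map x) ((yon S).map y) h.1)
      have hzt : z ≫ t = x := (yon S).map_injective (by rw [Functor.map_comp, hz, hRW.lift_fst])
      have hzs : z ≫ s = y := (yon S).map_injective (by rw [Functor.map_comp, hz, hRW.lift_snd])
      obtain ⟨r, hr⟩ := (hRfac z).2 fun τ => by
        have hP : IsPullback (pullback.fst z k) (pullback.snd z k) z k := IsPullback.of_hasPullback _ _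
        haveI : Surjective (pullback.fst z k).left :=
          MorphismProperty.of_isPullback (isPullback_left hP).flip hk.2.2
        obtain ⟨e, he⟩ := (hjfac (pullback.snd z k)).2 (h.2 (pullback.fst z k) _ _
          (by rw [Category.assoc, hktp, ← hP.w_assoc, hzt])
          (by rw [Category.assoc, hksp, ← hP.w_assoc, hzs])
          (by simp only [Functor.map_comp, Category.assoc, hktX, hksX]))
        obtain ⟨τ0, hτ0⟩ := (pullback.fst z k).left.surjective τ
        refine ⟨j.left (e.left τ0), ⟨_, rfl⟩, ?_⟩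
        have h2 : (e ≫ j) ≫ k = pullback.fst z k ≫ z := by rw [he, hP.w]
        have := congrArg (fun m : pullback z k ⟶ RW => m.left τ0) h2
        rw [← hτ0]
        exact this
      exact ⟨r, by rw [reassoc_of% hr, hzt], by rw [reassoc_of% hr, hzs]⟩
  have hte : Etale t.left := hyWe.2 _ _ _ hRW.flip
  have hse : Etale s.left := hyWe.2 _ _ _ hRW
  have hEq : IsEtaleEqvRel (ι ≫ s) (ι ≫ t) := by
    refine ⟨⟨fun T r r' h1 h2 => ?_, fun T => ?_⟩, ?_, ?_⟩
    · haveI : Mono ι := (Over.forget S).mono_of_mono_map (inferInstanceAs (Mono ι.left))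
      rw [← cancel_mono ι]
      exact (yon S).map_injective (hRW.hom_ext (by simpa [← Functor.map_comp] using congrArg (yon S).map h1)
        (by simpa [← Functor.map_comp] using congrArg (yon S).map h2))
    · simp only [hRrel]
      exact rel_equivalence sqW T
    · haveI := hse; exact inferInstanceAs (Etale (ι.left ≫ s.left))
    · haveI := hte; exact inferInstanceAs (Etale (ι.left ≫ t.left))
  obtain ⟨πQ, hπ⟩ : ∃ π : (yon S).obj W ⟶ QuotSh.quot Scheme.fppfPrecoverage (ι ≫ s) (ι ≫ t),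
      IsPresentation (ι ≫ s) (ι ≫ t) π := ⟨_, isPresentation_quot hEq⟩
  have hQ := isAlgSpace_quot hEq
  haveI : Epi πQ := epi_of_etale_surjective hπ.etale hπ.surjective
  haveI : Epi θ := epi_of_etale_surjective hθe hθs
  obtain ⟨a, ha⟩ := exists_desc_of_epi πQ hπ.isPullback yW (by
    simp only [Functor.map_comp, Category.assoc, hRW.w])
  -- related points have equal images in the quotient
  have hπrel : ∀ {T : Over S} (x y : T ⟶ W), Rel p yW θ b x y ↔
      (yon S).map x ≫ πQ = (yon S).map y ≫ πQ := by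
    intro T x y
    rw [← hRrel]
    constructor
    · rintro ⟨r, rfl, rfl⟩
      simp only [Functor.map_comp, Category.assoc]
      have := hπ.isPullback.w
      simp only [Functor.map_comp, Category.assoc] at this
      rw [this]
    · intro h
      obtain ⟨r, hr⟩ := (yon S).map_surjective (hπ.isPullback.lift _ _ h)
      exact ⟨r, (yon S).map_injective (by rw [(yon S).map_comp r, hr, hπ.isPullback.lift_fst]),
        (yon S).map_injective (by rw [(yon S).map_comp r, hr, hπ.isPullback.lift_snd])⟩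
  have hR0rel : Rel p yW θ b (t0 ≫ p) (s0 ≫ p) := by
    have hw0' : (yon S).map t0 ≫ θ = (yon S).map s0 ≫ θ := hR0.w
    have hY' : (yon S).map (t0 ≫ p) ≫ yW = (yon S).map (s0 ≫ p) ≫ yW := by
      simp only [Functor.map_comp, Category.assoc]
      rw [← sqW.w]
      simp only [← Category.assoc, hw0']
    obtain ⟨z, hz⟩ := (yon S).map_surjective (hRW.lift _ _ hY')
    have hzt : z ≫ t = t0 ≫ p := (yon S).map_injective (by rw [(yon S).map_comp z t, hz, hRW.lift_fst])
    have hzs : z ≫ s = s0 ≫ p := (yon S).map_injective (by rw [(yon S).map_comp z s, hz, hRW.lift_snd])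
    obtain ⟨z0, hz0⟩ := (yon S).map_surjective (sqK.lift ((yon S).map t0 ≫ θ ≫ b) ((yon S).map z) (by
      simp only [Category.assoc]
      rw [← Category.assoc θ, sqW.w, ← Functor.map_comp_assoc, ← Functor.map_comp_assoc, hzt]))
    have hz0X : (yon S).map z0 ≫ kX = (yon S).map t0 ≫ θ ≫ b := by rw [hz0, sqK.lift_fst]
    have hz0k : z0 ≫ k = z := (yon S).map_injective (by rw [(yon S).map_comp z0 k, hz0, sqK.lift_snd])
    have ex : z0 ≫ kt = t0 := (yon S).map_injective (sqW.hom_ext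
      (by rw [Functor.map_comp, Category.assoc, hktX, hz0X])
      (by rw [← Functor.map_comp, ← Functor.map_comp, Category.assoc, hktp, reassoc_of% hz0k, hzt]))
    have ey : z0 ≫ ks = s0 := (yon S).map_injective (sqW.hom_ext
      (by rw [Functor.map_comp, Category.assoc, hksX, hz0X]; simpa using congrArg (· ≫ b) hw0')
      (by rw [← Functor.map_comp, ← Functor.map_comp, Category.assoc, hksp, reassoc_of% hz0k, hzs]))
    obtain ⟨e, he⟩ := (hjfac z0).2 (by rw [ex, ey]; exact hw0')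
    obtain ⟨r, hr⟩ := (hRfac z).2 fun τ => by
      refine ⟨j.left (e.left τ), ⟨_, rfl⟩, ?_⟩
      exact congrArg (fun m : R0 ⟶ RW => m.left τ) (show (e ≫ j) ≫ k = z by rw [he, hz0k])
    exact (hRrel _ _).1 ⟨r, by rw [reassoc_of% hr, hzt], by rw [reassoc_of% hr, hzs]⟩
  obtain ⟨c, hc⟩ := exists_desc_of_epi θ hR0 ((yon S).map p ≫ πQ) (by
    rw [← Functor.map_comp_assoc, ← Functor.map_comp_assoc]
    exact (hπrel _ _).1 hR0rel)
  have hθc : θ ≫ c = (yon S).map p ≫ πQ := hc
  have hae : IsEtaleMor a := (isEtaleMor_iff_locP hY).2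
    (locP_of_chart hπ.etale hπ.surjective hye (ha.trans hyW) hw)
  have hbc : b ≫ f = c ≫ a := by
    rw [← cancel_epi θ, reassoc_of% hθc, ha, ← Category.assoc, sqW.w]
  refine ⟨_, a, c, hQ, hae, ?_⟩
  obtain ⟨L, l₁, l₂, hL⟩ : ∃ (L : Sp S) (l₁ : L ⟶ X) (l₂ : L ⟶ QuotSh.quot Scheme.fppfPrecoverage (ι ≫ s) (ι ≫ t)),
      IsPullback l₁ l₂ f a := ⟨_, _, _, IsPullback.of_hasPullback _ _⟩
  let e := hL.lift b c hbc
  have sqπ : IsPullback (θ ≫ e) ((yon S).map p) l₂ πQ := by
    refine IsPullback.of_right ?_ ?_ hL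
    · rw [Category.assoc, hL.lift_fst, ha]; exact sqW
    · rw [Category.assoc, hL.lift_snd, hθc]
  haveI : Epi (θ ≫ e) := epi_of_etale_surjective (repWith_of_isPullback sqπ.flip hπ.etale)
    (repWith_of_isPullback sqπ.flip hπ.surjective)
  obtain ⟨RL, tL, sL, hRL⟩ := exists_isPullback_yon (repWith_of_isPullback sqπ.flip hπ.etale).1 (θ ≫ e)
  have hwX := congrArg (· ≫ l₁) hRL.w
  have hwQ := congrArg (· ≫ l₂) hRL.w
  simp only [Category.assoc, e, hL.lift_fst, hL.lift_snd, hθc] at hwX hwQ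
  obtain ⟨h, hh⟩ := exists_desc_of_epi (θ ≫ e) hRL θ (((hπrel (tL ≫ p) (sL ≫ p)).2 (by
    simpa [Functor.map_comp] using hwQ)).2 (𝟙 RL) tL sL (Category.id_comp _).symm (Category.id_comp _).symm hwX)
  haveI : IsIso e := ⟨h, by rw [← cancel_epi θ]; simpa using hh,
    by rw [← cancel_epi (θ ≫ e), ← Category.assoc, hh, Category.comp_id]⟩
  exact IsPullback.of_iso hL (asIso e).symm (Iso.refl _) (Iso.refl _) (Iso.refl _)
    (by simp [e]) (by simp [e]) (by simp) (by simp)

end Groth.Agent.EtUH
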